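import Mathlib
import Groth.Prelude.Def_SGA3b
import Groth.Agent.Lib.Helper6.MultType.Prim
import Groth.Agent.Lib.Helper6.Isotriv.Orth

/-!
# The group algebra of a subgroup inside a group algebra (helper6)

For a subgroup `N ≤ M`: the inclusion `ι : T[N] → T[M]`, its linear retraction `π₀` (restriction of
the support), the projection formula `π₀(ι a · y) = a · π₀ y`, and the criterion "an element whose
coaction through `M → G` is trivial is supported on the kernel".
-/

set_option autoImplicit false
set_option linter.unusedSectionVars false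
set_option linter.unusedVariables false
set_option linter.unusedSimpArgs false
set_option linter.style.haveILetI false
set_option linter.overlappingInstances false
set_option maxHeartbeats 800000
set_option synthInstance.maxHeartbeats 400000

universe u
open TensorProduct SGA3b Coalgebra
open Groth.Agent.Lib.Helper6.MultType Groth.Agent.Lib.Helper6.Isotriv

namespace Groth.Agent.Lib.Helper6.MTKer2

section FG

lemma subgroup_fg {M : Type u} [CommGroup M] (hM : Group.FG M) (P : Subgroup M) : P.FG := by
  haveI : AddGroup.FG (Additive M) := GroupFG.iff_add_fg.mp hM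
  haveI : Module.Finite ℤ (Additive M) := Module.Finite.iff_addGroup_fg.mpr inferInstance
  haveI : IsNoetherian ℤ (Additive M) := isNoetherian_of_isNoetherianRing_of_finite ℤ (Additive M)
  rw [Subgroup.fg_iff_add_fg]
  have h := IsNoetherian.noetherian (AddSubgroup.toIntSubmodule P.toAddSubgroup)
  rw [Submodule.fg_iff_addSubgroup_fg, AddSubgroup.toIntSubmodule_toAddSubgroup] at h
  exact h

end FG

section SubAlg

variable (T : Type u) [CommRing T] {M : Type u} [CommGroup M] (N : Subgroup M)

/-- the inclusion `T[N] → T[M]` -/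
noncomputable def iota : MonoidAlgebra T N →ₐc[T] MonoidAlgebra T M :=
  MonoidAlgebra.mapDomainBialgHom T N.subtype

lemma iota_single (n : N) (r : T) :
    iota T N (MonoidAlgebra.single n r) = MonoidAlgebra.single (n : M) r := by
  unfold iota
  rw [MonoidAlgebra.mapDomainBialgHom_single]
  rfl

/-- the retraction `T[M] → T[N]` (restriction of the support) -/
noncomputable def pi0 : MonoidAlgebra T M →ₗ[T] MonoidAlgebra T N :=
  (MonoidAlgebra.coeffLinearEquiv T).symm.toLinearMap ∘ₗ
    Finsupp.lcomapDomain (Subtype.val : N → M) Subtype.val_injective ∘ₗ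
      (MonoidAlgebra.coeffLinearEquiv T).toLinearMap

lemma pi0_coeff (x : MonoidAlgebra T M) (n : N) : (pi0 T N x).coeff n = x.coeff (n : M) := rfl

lemma pi0_single_mem (m : M) (hm : m ∈ N) (r : T) :
    pi0 T N (MonoidAlgebra.single m r) = MonoidAlgebra.single (⟨m, hm⟩ : N) r := by
  classical
  apply MonoidAlgebra.coeff_injective
  ext n
  rw [pi0_coeff, MonoidAlgebra.coeff_single, MonoidAlgebra.coeff_single, Finsupp.single_apply,
    Finsupp.single_apply]
  by_cases h : m = (n : M)
  · rw [if_pos h, if_pos (Subtype.ext h)]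
  · rw [if_neg h, if_neg (fun h' => h (congrArg Subtype.val h'))]

lemma pi0_single_not_mem (m : M) (hm : m ∉ N) (r : T) :
    pi0 T N (MonoidAlgebra.single m r) = 0 := by
  classical
  apply MonoidAlgebra.coeff_injective
  ext n
  rw [pi0_coeff, MonoidAlgebra.coeff_single, Finsupp.single_apply]
  have h : m ≠ (n : M) := by
    intro h
    apply hm
    rw [h]
    exact n.2
  rw [if_neg h]
  rfl

lemma pi0_iota (a : MonoidAlgebra T N) : pi0 T N (iota T N a) = a := by
  induction a using MonoidAlgebra.induction_linear with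
  | zero => rw [map_zero, map_zero]
  | add x y hx hy => rw [map_add, map_add, hx, hy]
  | single n r => rw [iota_single, pi0_single_mem T N (n : M) n.2 r]

lemma iota_injective : Function.Injective (iota T N) :=
  Function.LeftInverse.injective (pi0_iota T N)

lemma pi0_one : pi0 T N (1 : MonoidAlgebra T M) = 1 := by
  rw [← map_one (iota T N), pi0_iota]

lemma pi0_iota_mul (a : MonoidAlgebra T N) (y : MonoidAlgebra T M) :
    pi0 T N (iota T N a * y) = a * pi0 T N y := by
  induction a using MonoidAlgebra.induction_linear with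
  | zero => rw [map_zero, zero_mul, map_zero, zero_mul]
  | add a b ha hb => rw [map_add, add_mul, map_add, ha, hb, add_mul]
  | single n r =>
    induction y using MonoidAlgebra.induction_linear with
    | zero => rw [mul_zero, map_zero, mul_zero]
    | add y z hy hz => rw [mul_add, map_add, hy, hz, map_add, mul_add]
    | single m s =>
      rw [iota_single, MonoidAlgebra.single_mul_single]
      by_cases hm : m ∈ N
      · rw [pi0_single_mem T N m hm, pi0_single_mem T N ((n : M) * m) (N.mul_mem n.2 hm),
          MonoidAlgebra.single_mul_single]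
        rfl
      · have hnm : (n : M) * m ∉ N := fun h => hm ((Subgroup.mul_mem_cancel_left N n.2).mp h)
        rw [pi0_single_not_mem T N m hm, pi0_single_not_mem T N _ hnm, mul_zero]

lemma iota_pi0_of_supp (x : MonoidAlgebra T M) (hx : ∀ m, m ∉ N → x.coeff m = 0) :
    iota T N (pi0 T N x) = x := by
  have h0 := MonoidAlgebra.sum_coeff_single x
  rw [Finsupp.sum] at h0
  calc iota T N (pi0 T N x)
      = iota T N (pi0 T N (∑ m ∈ x.coeff.support, MonoidAlgebra.single m (x.coeff m))) := by
        rw [h0]
    _ = ∑ m ∈ x.coeff.support, iota T N (pi0 T N (MonoidAlgebra.single m (x.coeff m))) := by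
        rw [map_sum, map_sum]
    _ = ∑ m ∈ x.coeff.support, MonoidAlgebra.single m (x.coeff m) := by
        refine Finset.sum_congr rfl (fun m hm => ?_)
        have hmN : m ∈ N := by
          by_contra hcon
          exact (Finsupp.mem_support_iff.mp hm) (hx m hcon)
        rw [pi0_single_mem T N m hmN, iota_single]
    _ = x := h0

lemma pi0_mem_map (I : Ideal T) {y : MonoidAlgebra T M}
    (hy : y ∈ Ideal.map (algebraMap T (MonoidAlgebra T M)) I) :
    pi0 T N y ∈ Ideal.map (algebraMap T (MonoidAlgebra T N)) I := by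
  have hy' : y ∈ (I • ⊤ : Submodule T (MonoidAlgebra T M)) := by
    rw [Ideal.smul_top_eq_map]; exact hy
  refine Submodule.smul_induction_on hy' ?_ ?_
  · intro r hr a _
    rw [map_smul, Algebra.smul_def]
    exact Ideal.mul_mem_right _ _ (Ideal.mem_map_of_mem _ hr)
  · intro a b ha hb
    rw [map_add]
    exact Ideal.add_mem _ ha hb

end SubAlg

section Coeff

variable (T : Type u) [CommRing T] {M : Type u} [CommGroup M]

lemma mem_map_of_coeff_mem {G : Type u} [CommGroup G] (I : Ideal T) (x : MonoidAlgebra T G)
    (h : ∀ g, x.coeff g ∈ I) : x ∈ Ideal.map (algebraMap T (MonoidAlgebra T G)) I := by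
  rw [← MonoidAlgebra.sum_coeff_single x, Finsupp.sum]
  refine Ideal.sum_mem _ (fun g _ => ?_)
  have e : (MonoidAlgebra.single g (x.coeff g) : MonoidAlgebra T G) =
      algebraMap T (MonoidAlgebra T G) (x.coeff g) * MonoidAlgebra.single g 1 := by
    rw [← Algebra.smul_def, MonoidAlgebra.smul_single, smul_eq_mul, mul_one]
  rw [e]
  exact Ideal.mul_mem_right _ _ (Ideal.mem_map_of_mem _ (h g))

lemma aug_le_of_single {G : Type u} [CommGroup G] (I : Ideal (MonoidAlgebra T G))
    (h : ∀ g : G, (MonoidAlgebra.single g (1 : T) - 1 : MonoidAlgebra T G) ∈ I) :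
    RingHom.ker (Bialgebra.counitAlgHom T (MonoidAlgebra T G)) ≤ I := by
  intro x hx
  have hc : counit (R := T) x = 0 := hx
  rw [counit_eq_sum, Finsupp.sum] at hc
  have h0 := MonoidAlgebra.sum_coeff_single x
  rw [Finsupp.sum] at h0
  have e : x = ∑ g ∈ x.coeff.support,
      x.coeff g • (MonoidAlgebra.single g (1 : T) - 1 : MonoidAlgebra T G) := by
    have e1 : ∀ g ∈ x.coeff.support,
        x.coeff g • (MonoidAlgebra.single g (1 : T) - 1 : MonoidAlgebra T G) =
        MonoidAlgebra.single g (x.coeff g) - x.coeff g • (1 : MonoidAlgebra T G) := by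
      intro g _
      rw [smul_sub, MonoidAlgebra.smul_single, smul_eq_mul, mul_one]
    rw [Finset.sum_congr rfl e1, Finset.sum_sub_distrib, ← Finset.sum_smul, hc, zero_smul,
      sub_zero]
    exact h0.symm
  rw [e]
  refine Ideal.sum_mem _ (fun g _ => ?_)
  rw [Algebra.smul_def]
  exact Ideal.mul_mem_left _ _ (h g)

/-- `x ⊗ y ↦ x_m y_g` -/
noncomputable def Lam {G : Type u} [CommGroup G] (m : M) (g : G) :
    MonoidAlgebra T M ⊗[T] MonoidAlgebra T G →ₗ[T] T :=
  LinearMap.mul' T T ∘ₗ TensorProduct.map (coeffL T M m) (coeffL T G g)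

lemma Lam_tmul {G : Type u} [CommGroup G] (m : M) (g : G) (x : MonoidAlgebra T M)
    (y : MonoidAlgebra T G) : Lam T m g (x ⊗ₜ[T] y) = x.coeff m * y.coeff g := by
  simp [Lam]

lemma Lam_comul {G : Type u} [CommGroup G] (f : M →* G) (m : M) (x : MonoidAlgebra T M) :
    Lam T m (f m) (TensorProduct.map
      (LinearMap.id : MonoidAlgebra T M →ₗ[T] MonoidAlgebra T M)
      ((MonoidAlgebra.mapDomainBialgHom T f : MonoidAlgebra T M →ₐc[T] MonoidAlgebra T G) :
        MonoidAlgebra T M →ₗ[T] MonoidAlgebra T G) (comul (R := T) x)) = x.coeff m := by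
  classical
  induction x using MonoidAlgebra.induction_linear with
  | zero => simp
  | add x y hx hy =>
    rw [map_add, map_add, map_add, hx, hy, MonoidAlgebra.coeff_add, Finsupp.add_apply]
  | single p r =>
    rw [MonoidAlgebra.comul_single, CommSemiring.comul_apply, TensorProduct.map_tmul,
      TensorProduct.map_tmul, Lam_tmul]
    simp only [MonoidAlgebra.lsingle_apply, LinearMap.id_apply, LinearMap.coe_coe,
      MonoidAlgebra.mapDomainBialgHom_single, MonoidAlgebra.coeff_single, Finsupp.single_apply]
    by_cases h1 : p = m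
    · subst h1
      simp
    · simp [h1]

end Coeff

section Lift

lemma exists_mem_map_of_surjective {T A B : Type u} [CommRing T] [CommRing A] [CommRing B]
    [Algebra T A] [Algebra T B] (f : A →ₐ[T] B) (hf : Function.Surjective f) (I : Ideal T) {w : B}
    (hw : w ∈ Ideal.map (algebraMap T B) I) :
    ∃ y ∈ Ideal.map (algebraMap T A) I, f y = w := by
  have hw' : w ∈ (I • ⊤ : Submodule T B) := by
    rw [Ideal.smul_top_eq_map]; exact hw
  refine Submodule.smul_induction_on hw' ?_ ?_
  · intro r hr b _
    obtain ⟨a, rfl⟩ := hf b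
    refine ⟨r • a, ?_, map_smul f r a⟩
    rw [Algebra.smul_def]
    exact Ideal.mul_mem_right _ _ (Ideal.mem_map_of_mem _ hr)
  · rintro x y ⟨a, ha, rfl⟩ ⟨b, hb, rfl⟩
    exact ⟨a + b, Ideal.add_mem _ ha hb, map_add f a b⟩

end Lift

end Groth.Agent.Lib.Helper6.MTKer2
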