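import Mathlib
import Groth.Prelude.Def_SGA3b
import Groth.Agent.Lib.Helper6.MTKer2.P1
import Groth.Agent.Lib.Helper6.MultType.Mono
import Groth.Agent.Lib.Helper6.ClTriv.CT1

/-!
# The kernel ideal of a homomorphism is a Hopf ideal; factorisation through a subgroup algebra
(helper6)
-/

set_option autoImplicit false
set_option linter.unusedSectionVars false
set_option linter.unusedVariables false
set_option linter.unusedSimpArgs false
set_option linter.style.haveILetI false
set_option linter.overlappingInstances false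
set_option maxHeartbeats 800000
set_option synthInstance.maxHeartbeats 400000

universe u
open TensorProduct SGA3b Coalgebra
open Groth.Agent.Lib.Helper6.MultType Groth.Agent.Lib.Helper6.Isotriv
open Groth.Agent.Lib.Helper6.ClTriv

namespace Groth.Agent.Lib.Helper6.MTKer2

section HopfIdeal

variable {T : Type u} [CommRing T] {D X : Type u} [CommRing D] [HopfAlgebra T D] [CommRing X]
  [HopfAlgebra T X] (ψ : D →ₐc[T] X)

/-- the ideal generated by the image of the augmentation ideal -/
abbrev mapAug : Ideal X := Ideal.map ψ (RingHom.ker (Bialgebra.counitAlgHom T D))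

lemma mapAug_le_aug : mapAug ψ ≤ RingHom.ker (Bialgebra.counitAlgHom T X) := by
  rw [Ideal.map_le_iff_le_comap]
  intro c hc
  rw [Ideal.mem_comap, RingHom.mem_ker]
  show counit (R := T) (ψ c) = 0
  rw [CoalgHomClass.counit_comp_apply]
  exact hc

lemma mk_psi (c : D) :
    Ideal.Quotient.mk (mapAug ψ) (ψ c) = algebraMap T (X ⧸ mapAug ψ) (counit (R := T) c) := by
  have h1 : c - algebraMap T D (counit (R := T) c) ∈
      RingHom.ker (Bialgebra.counitAlgHom T D) := sub_counit_mem c
  have h2 : ψ (c - algebraMap T D (counit (R := T) c)) ∈ mapAug ψ := Ideal.mem_map_of_mem ψ h1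
  have h3 := Ideal.Quotient.eq_zero_iff_mem.mpr h2
  rw [map_sub, map_sub, sub_eq_zero] at h3
  rw [h3, AlgHomClass.commutes ψ]
  rfl

/-- the comultiplication followed by the two projections -/
noncomputable def PhiQ : X →ₐ[T] (X ⧸ mapAug ψ) ⊗[T] (X ⧸ mapAug ψ) :=
  (Algebra.TensorProduct.map (Ideal.Quotient.mkₐ T (mapAug ψ))
    (Ideal.Quotient.mkₐ T (mapAug ψ))).comp (Bialgebra.comulAlgHom T X)

lemma PhiQ_psi (c : D) (hc : counit (R := T) c = 0) : PhiQ ψ (ψ c) = 0 := by
  unfold PhiQ
  rw [AlgHom.comp_apply, Bialgebra.comulAlgHom_apply, ← ((ℛ T c).induced ψ).eq, map_sum]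
  have hterm : ∀ i ∈ ((ℛ T c).induced ψ).index,
      (Algebra.TensorProduct.map (Ideal.Quotient.mkₐ T (mapAug ψ))
        (Ideal.Quotient.mkₐ T (mapAug ψ)))
        (((ℛ T c).induced ψ).left i ⊗ₜ[T] ((ℛ T c).induced ψ).right i) =
      (counit (R := T) ((ℛ T c).left i) * counit (R := T) ((ℛ T c).right i)) •
        ((1 : X ⧸ mapAug ψ) ⊗ₜ[T] (1 : X ⧸ mapAug ψ)) := by
    intro i _
    rw [Algebra.TensorProduct.map_tmul]
    simp only [Coalgebra.Repr.induced_left, Coalgebra.Repr.induced_right, Function.comp_apply,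
      Ideal.Quotient.mkₐ_eq_mk]
    rw [mk_psi, mk_psi, Algebra.algebraMap_eq_smul_one, Algebra.algebraMap_eq_smul_one,
      TensorProduct.smul_tmul_smul]
  rw [Finset.sum_congr rfl hterm, ← Finset.sum_smul]
  have hsum : ∑ i ∈ ((ℛ T c).induced ψ).index,
      counit (R := T) ((ℛ T c).left i) * counit (R := T) ((ℛ T c).right i) = 0 := by
    have h1 := congrArg (counit (R := T)) (Coalgebra.sum_counit_smul (ℛ T c))
    rw [map_sum] at h1
    simp only [map_smul, smul_eq_mul] at h1
    rw [hc] at h1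
    exact h1
  rw [hsum, zero_smul]

theorem mapAug_isCoideal : ((mapAug ψ).restrictScalars T).IsCoideal := by
  constructor
  · intro x hx
    exact mapAug_le_aug ψ hx
  · intro x hx
    have h : mapAug ψ ≤ RingHom.ker (PhiQ ψ) := by
      rw [Ideal.map_le_iff_le_comap]
      intro c hc
      rw [Ideal.mem_comap, RingHom.mem_ker]
      exact PhiQ_psi ψ c hc
    exact h hx

theorem mapAug_isHopfIdeal : (mapAug ψ).IsHopfIdeal T := by
  haveI := mapAug_isCoideal ψ
  constructor
  intro x hx
  have h : mapAug ψ ≤ Ideal.comap (HopfAlgebra.antipodeAlgHom T X) (mapAug ψ) := by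
    rw [Ideal.map_le_iff_le_comap]
    intro c hc
    rw [Ideal.mem_comap, Ideal.mem_comap]
    show HopfAlgebra.antipode T (ψ c) ∈ _
    rw [← bialgHom_antipode]
    apply Ideal.mem_map_of_mem
    rw [RingHom.mem_ker]
    show counit (R := T) (HopfAlgebra.antipode T c) = 0
    rw [HopfAlgebra.counit_antipode]
    exact hc
  exact h hx

end HopfIdeal

section Factor

variable {T : Type u} [CommRing T] {M : Type u} [CommGroup M] (N : Subgroup M)
  {D : Type u} [CommRing D] [HopfAlgebra T D] (φ : D →ₐc[T] MonoidAlgebra T M)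

/-- A bialgebra map to `T[M]` whose image is supported on `N` factors through `T[N]`. -/
theorem exists_factor (h : ∀ d, iota T N (pi0 T N (φ d)) = φ d) :
    ∃ φ₀ : D →ₐc[T] MonoidAlgebra T N, ∀ d, iota T N (φ₀ d) = φ d := by
  let f₀ : D →ₐ[T] MonoidAlgebra T N :=
    AlgHom.ofLinearMap ((pi0 T N) ∘ₗ ((φ : D →ₐ[T] MonoidAlgebra T M).toLinearMap))
      (by
        show pi0 T N (φ 1) = 1
        rw [map_one, pi0_one])
      (by
        intro x y
        show pi0 T N (φ (x * y)) = pi0 T N (φ x) * pi0 T N (φ y)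
        rw [map_mul, ← h x, pi0_iota_mul, pi0_iota])
  have hf₀ : ∀ d, f₀ d = pi0 T N (φ d) := fun d => rfl
  have hι : ∀ d, iota T N (f₀ d) = φ d := fun d => by rw [hf₀, h]
  refine ⟨BialgHom.ofAlgHom f₀ ?_ ?_, fun d => hι d⟩
  · ext d
    show counit (R := T) (f₀ d) = counit (R := T) d
    rw [← CoalgHomClass.counit_comp_apply (iota T N) (f₀ d), hι,
      CoalgHomClass.counit_comp_apply]
  · ext d
    show Algebra.TensorProduct.map f₀ f₀ (comul (R := T) d) = comul (R := T) (f₀ d)
    have hinj : Function.Injective (TensorProduct.map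
        ((iota T N : MonoidAlgebra T N →ₐc[T] MonoidAlgebra T M) :
          MonoidAlgebra T N →ₗ[T] MonoidAlgebra T M)
        ((iota T N : MonoidAlgebra T N →ₐc[T] MonoidAlgebra T M) :
          MonoidAlgebra T N →ₗ[T] MonoidAlgebra T M)) := by
      apply Function.LeftInverse.injective (g := TensorProduct.map (pi0 T N) (pi0 T N))
      intro z
      rw [← LinearMap.comp_apply, ← TensorProduct.map_comp]
      have hid : pi0 T N ∘ₗ ((iota T N : MonoidAlgebra T N →ₐc[T] MonoidAlgebra T M) :
          MonoidAlgebra T N →ₗ[T] MonoidAlgebra T M) = LinearMap.id :=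
        LinearMap.ext (pi0_iota T N)
      rw [hid, TensorProduct.map_id, LinearMap.id_apply]
    apply hinj
    rw [CoalgHomClass.map_comp_comul_apply (iota T N) (f₀ d), hι]
    rw [← (ℛ T d).eq, map_sum, map_sum, ← ((ℛ T d).induced φ).eq]
    refine Finset.sum_congr rfl (fun i _ => ?_)
    rw [Algebra.TensorProduct.map_tmul, TensorProduct.map_tmul]
    show iota T N (f₀ ((ℛ T d).left i)) ⊗ₜ[T] iota T N (f₀ ((ℛ T d).right i)) =
      φ ((ℛ T d).left i) ⊗ₜ[T] φ ((ℛ T d).right i)
    rw [hι, hι]

end Factor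

end Groth.Agent.Lib.Helper6.MTKer2
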