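import Mathlib
import Groth.Prelude.Def_SGA3b
import Groth.Agent.Lib.Helper6.MTKer2.P2
import Groth.Agent.Lib.Helper6.MTKer.MK5
import Groth.Agent.Lib.Helper6.Isotriv.InsepHom
import Groth.Agent.Lib.Helper6.LocRigid.LR2
import Groth.Agent.Lib.Helper6.ClTriv.CT3
import Groth.Agent.Lib.Helper6.Lift.GLMod

/-!
# Kernels of homomorphisms from a diagonalisable group over a local ring (helper6)

`T` local, `φ : D → T[M]` a bialgebra map from a finitely presented Hopf algebra, `q : T[M] → Y`
the quotient by the ideal generated by `φ(aug D)`.  Then `Ker q = Ker(T[M] → T[M/K])` where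
`K` is the group of characters trivial on the kernel.
-/

set_option autoImplicit false
set_option linter.unusedSectionVars false
set_option linter.unusedVariables false
set_option linter.unusedSimpArgs false
set_option linter.style.haveILetI false
set_option linter.overlappingInstances false
set_option maxHeartbeats 800000
set_option synthInstance.maxHeartbeats 400000

universe u
open TensorProduct SGA3b Coalgebra
open Groth.Agent.Lib.Helper6.MultType Groth.Agent.Lib.Helper6.Isotriv
open Groth.Agent.Lib.Helper6.ClTriv Groth.Agent.Lib.Helper6.MTKer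

namespace Groth.Agent.Lib.Helper6.MTKer2

section Field

variable {k : Type u} [Field k] {M : Type u} [CommGroup M] {Y : Type u} [CommRing Y]
  [HopfAlgebra k Y]

lemma liftGroupLike_injective :
    Function.Injective (MonoidAlgebra.liftGroupLikeBialgHom (R := k) (A := Y)) := by
  have hli := linearIndep_groupLikeVal (R := k) (A := Y)
  rw [LinearIndependent] at hli
  have e : ∀ x : MonoidAlgebra k (GroupLike k Y),
      MonoidAlgebra.liftGroupLikeBialgHom (R := k) (A := Y) x =
        Finsupp.linearCombination k (GroupLike.val (R := k) (A := Y)) x.coeff := by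
    intro x
    induction x using MonoidAlgebra.induction_linear with
    | zero => simp
    | add x y hx hy => rw [map_add, hx, hy, MonoidAlgebra.coeff_add, map_add]
    | single g r =>
      simp [MonoidAlgebra.liftGroupLikeBialgHom, Algebra.smul_def]
  intro x y hxy
  rw [e, e] at hxy
  exact MonoidAlgebra.coeff_injective (hli hxy)

end Field

section Quot

variable {R : Type u} [CommRing R] {M : Type u} [CommGroup M]

lemma mapDomain_mk_of_le (P Q : Subgroup M) (h : P ≤ Q) (z : MonoidAlgebra R M)
    (hz : MonoidAlgebra.mapDomainBialgHom R (QuotientGroup.mk' P) z = 0) :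
    MonoidAlgebra.mapDomainBialgHom R (QuotientGroup.mk' Q) z = 0 := by
  have h4 : QuotientGroup.mk' Q =
      (QuotientGroup.map P Q (MonoidHom.id M) (fun x hx => h hx)).comp (QuotientGroup.mk' P) := by
    ext m; rfl
  rw [h4, ← MonoidAlgebra.mapDomainBialgHom_mapDomainBialgHom, hz, map_zero]

lemma mapDomain_PPa {S : Type u} [CommRing S] (S' : Type u) [CommRing S'] [Algebra S S']
    {G : Type u} [CommGroup G] (f : M →* G) (y : MonoidAlgebra S M) :
    MonoidAlgebra.mapDomainBialgHom S' f (PPa (M := M) S' y) =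
      PPa (M := G) S' (MonoidAlgebra.mapDomainBialgHom S f y) := by
  induction y using MonoidAlgebra.induction_linear with
  | zero => simp
  | add x y hx hy => rw [map_add, map_add, hx, hy, map_add, map_add]
  | single m r =>
    rw [MonoidAlgebra.mapDomainBialgHom_single]
    unfold PPa
    rw [MonoidAlgebra.mapAlgHom_single, MonoidAlgebra.mapAlgHom_single,
      MonoidAlgebra.mapDomainBialgHom_single]

end Quot

section FieldKer

variable {k : Type u} [Field k] {M : Type u} [CommGroup M] {Y : Type u} [CommRing Y]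
  [HopfAlgebra k Y]

/-- Over a field the kernel of a bialgebra map `k[M] → Y` is the kernel of `k[M] → k[M/N]`. -/
theorem field_ker (q : MonoidAlgebra k M →ₐc[k] Y) (P : Subgroup M) (hP : (glHom q).ker ≤ P)
    (z : MonoidAlgebra k M) (hz : q z = 0) :
    MonoidAlgebra.mapDomainBialgHom k (QuotientGroup.mk' P) z = 0 := by
  apply mapDomain_mk_of_le (glHom q).ker P hP
  have hinj : Function.Injective (quotLift q) := by
    intro x y hxy
    have h2 : Function.Injective
        (MonoidAlgebra.mapDomainBialgHom k (QuotientGroup.kerLift (glHom q))) := by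
      intro x y hxy
      exact MonoidAlgebra.mapDomain_injective (QuotientGroup.kerLift_injective (glHom q)) hxy
    apply h2
    apply liftGroupLike_injective (k := k) (Y := Y)
    exact hxy
  apply hinj
  rw [quotLift_mapDomain, hz, map_zero]

end FieldKer

section Local

variable {T : Type u} [CommRing T] [IsLocalRing T] {M : Type u} [CommGroup M]
  {D : Type u} [CommRing D] [HopfAlgebra T D] {Y : Type u} [CommRing Y] [HopfAlgebra T Y]
  (φ : D →ₐc[T] MonoidAlgebra T M) (q : MonoidAlgebra T M →ₐc[T] Y)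

/-- the characters trivial on the closed fibre of the kernel -/
noncomputable abbrev Nb : Subgroup M := (glHom (qP q (IsLocalRing.ResidueField T))).ker

/-- rigidity: over a subgroup containing `Nb`, the composite is trivial -/
theorem rho_phi_eq_counit (hM : Group.FG M)
    (hD : IsNoetherianRing T ∨ Algebra.FinitePresentation T D)
    (h1 : ∀ c : D, counit (R := T) c = 0 → q (φ c) = 0)
    (P : Subgroup M) (hP : Nb q ≤ P) (d : D) :
    MonoidAlgebra.mapDomainBialgHom T (QuotientGroup.mk' P) (φ d) =
      algebraMap T (MonoidAlgebra T (M ⧸ P)) (counit (R := T) d) := by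
  haveI := hM
  let ψ : D →ₐc[T] MonoidAlgebra T (M ⧸ P) :=
    (MonoidAlgebra.mapDomainBialgHom T (QuotientGroup.mk' P)).comp φ
  have hψ : ∀ c, ψ c = MonoidAlgebra.mapDomainBialgHom T (QuotientGroup.mk' P) (φ c) :=
    fun c => rfl
  have hft : Algebra.FiniteType T (MonoidAlgebra T (M ⧸ P)) :=
    MonoidAlgebra.finiteType_iff_group_fg.mpr inferInstance
  have hH : IsMultType T (MonoidAlgebra T (M ⧸ P)) :=
    isMultType_of_isDiag ⟨M ⧸ P, inferInstance, ⟨BialgEquiv.refl T _⟩⟩
  have hs : ∀ c : D, ψ c - algebraMap T (MonoidAlgebra T (M ⧸ P)) (counit (R := T) c) ∈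
      Ideal.map (algebraMap T (MonoidAlgebra T (M ⧸ P))) (IsLocalRing.maximalIdeal T) := by
    intro c
    have hc0 : counit (R := T) (c - algebraMap T D (counit (R := T) c)) = 0 := sub_counit_mem c
    have e : ψ c - algebraMap T (MonoidAlgebra T (M ⧸ P)) (counit (R := T) c) =
        ψ (c - algebraMap T D (counit (R := T) c)) := by
      rw [map_sub, AlgHomClass.commutes]
    rw [e]
    apply mem_map_of_coeff_mem
    intro g
    have hq0 := h1 _ hc0
    have hb : qP q (IsLocalRing.ResidueField T) (PPa (M := M) (IsLocalRing.ResidueField T)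
        (φ (c - algebraMap T D (counit (R := T) c)))) = 0 := by
      rw [qP_PPa, hq0, TensorProduct.tmul_zero]
    have hf := field_ker (qP q (IsLocalRing.ResidueField T)) P hP _ hb
    rw [mapDomain_PPa] at hf
    have hc := congrArg (fun w => w.coeff g) hf
    simp only [PPa, MonoidAlgebra.coeff_mapAlgHom, MonoidAlgebra.coeff_zero, Finsupp.coe_zero,
      Pi.zero_apply] at hc
    rw [hψ]
    exact (IsLocalRing.residue_eq_zero_iff _).mp hc
  exact LocRigid.eq_counit_of_local hft hH hD ψ hs d

/-- the characters trivial on the closed fibre of the kernel are trivial on the kernel -/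
theorem Nb_le_ker (hM : Group.FG M)
    (hD : IsNoetherianRing T ∨ Algebra.FinitePresentation T D)
    (hq : Function.Surjective q)
    (h1 : ∀ c : D, counit (R := T) c = 0 → q (φ c) = 0)
    (h2 : RingHom.ker q ≤ Ideal.map φ (RingHom.ker (Bialgebra.counitAlgHom T D))) :
    Nb q ≤ (glHom q).ker := by
  classical
  have hR2 := rho_phi_eq_counit φ q hM hD h1 (Nb q) le_rfl
  -- the image of `φ` is supported on `Nb q`
  have hsupp : ∀ (d : D) (m : M), m ∉ Nb q → (φ d).coeff m = 0 := by
    intro d m hm
    have key : TensorProduct.map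
        (LinearMap.id : MonoidAlgebra T M →ₗ[T] MonoidAlgebra T M)
        ((MonoidAlgebra.mapDomainBialgHom T (QuotientGroup.mk' (Nb q)) :
          MonoidAlgebra T M →ₐc[T] MonoidAlgebra T (M ⧸ Nb q)) :
          MonoidAlgebra T M →ₗ[T] MonoidAlgebra T (M ⧸ Nb q))
        (comul (R := T) (φ d)) = φ d ⊗ₜ[T] (1 : MonoidAlgebra T (M ⧸ Nb q)) := by
      rw [← ((ℛ T d).induced φ).eq, map_sum]
      have hterm : ∀ i ∈ ((ℛ T d).induced φ).index,
          TensorProduct.map (LinearMap.id : MonoidAlgebra T M →ₗ[T] MonoidAlgebra T M)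
            ((MonoidAlgebra.mapDomainBialgHom T (QuotientGroup.mk' (Nb q)) :
              MonoidAlgebra T M →ₐc[T] MonoidAlgebra T (M ⧸ Nb q)) :
              MonoidAlgebra T M →ₗ[T] MonoidAlgebra T (M ⧸ Nb q))
            (((ℛ T d).induced φ).left i ⊗ₜ[T] ((ℛ T d).induced φ).right i) =
          TensorProduct.map (LinearMap.id : MonoidAlgebra T M →ₗ[T] MonoidAlgebra T M)
            (Algebra.linearMap T (MonoidAlgebra T (M ⧸ Nb q)))
            (φ ((ℛ T d).left i) ⊗ₜ[T] counit (R := T) ((ℛ T d).right i)) := by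
        intro i _
        rw [TensorProduct.map_tmul, TensorProduct.map_tmul]
        show φ ((ℛ T d).left i) ⊗ₜ[T] MonoidAlgebra.mapDomainBialgHom T
            (QuotientGroup.mk' (Nb q)) (φ ((ℛ T d).right i)) =
          φ ((ℛ T d).left i) ⊗ₜ[T] algebraMap T (MonoidAlgebra T (M ⧸ Nb q))
            (counit (R := T) ((ℛ T d).right i))
        rw [hR2]
      have h5 : ∑ i ∈ ((ℛ T d).induced φ).index,
          φ ((ℛ T d).left i) ⊗ₜ[T] counit (R := T) ((ℛ T d).right i) = φ d ⊗ₜ[T] (1 : T) :=
        Coalgebra.sum_map_tmul_counit_eq φ d (repr := ℛ T d)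
      rw [Finset.sum_congr rfl hterm, ← map_sum, h5, TensorProduct.map_tmul, LinearMap.id_apply,
        Algebra.linearMap_apply, map_one]
    have h6 := congrArg (Lam T m (QuotientGroup.mk' (Nb q) m)) key
    rw [Lam_comul T (QuotientGroup.mk' (Nb q)) m (φ d), Lam_tmul] at h6
    have h7 : (1 : MonoidAlgebra T (M ⧸ Nb q)).coeff (QuotientGroup.mk' (Nb q) m) = 0 := by
      rw [MonoidAlgebra.one_def, MonoidAlgebra.coeff_single, Finsupp.single_apply, if_neg]
      intro h8
      exact hm ((QuotientGroup.eq_one_iff m).mp h8.symm)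
    rw [h7, mul_zero] at h6
    exact h6
  have hιπ : ∀ d, iota T (Nb q) (pi0 T (Nb q) (φ d)) = φ d :=
    fun d => iota_pi0_of_supp T (Nb q) (φ d) (hsupp d)
  obtain ⟨φ₀, hφ₀⟩ := exists_factor (Nb q) φ hιπ
  haveI : (mapAug φ₀).IsHopfIdeal T := mapAug_isHopfIdeal φ₀
  have hNfg : Group.FG ↥(Nb q) := (Group.fg_iff_subgroup_fg (Nb q)).mpr (subgroup_fg hM (Nb q))
  have hftN : Algebra.FiniteType T (MonoidAlgebra T ↥(Nb q)) :=
    MonoidAlgebra.finiteType_iff_group_fg.mpr hNfg
  have hHN : IsMultType T (MonoidAlgebra T ↥(Nb q)) :=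
    isMultType_of_isDiag ⟨↥(Nb q), inferInstance, ⟨BialgEquiv.refl T _⟩⟩
  -- the retraction maps the kernel ideal into `mapAug φ₀`
  have hPIJ : ∀ z ∈ Ideal.map φ (RingHom.ker (Bialgebra.counitAlgHom T D)),
      ∀ a : MonoidAlgebra T M, pi0 T (Nb q) (a * z) ∈ mapAug φ₀ := by
    intro z hz
    refine Submodule.span_induction ?_ ?_ ?_ ?_ hz
    · rintro _ ⟨c, hc, rfl⟩ a
      show pi0 T (Nb q) (a * φ c) ∈ _
      rw [← hφ₀ c, mul_comm, pi0_iota_mul]
      exact Ideal.mul_mem_right _ _ (Ideal.mem_map_of_mem φ₀ hc)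
    · intro a
      rw [mul_zero, map_zero]
      exact Ideal.zero_mem _
    · intro x y _ _ hx hy a
      rw [mul_add, map_add]
      exact Ideal.add_mem _ (hx a) (hy a)
    · intro b x _ hx a
      rw [smul_eq_mul, ← mul_assoc]
      exact hx (a * b)
  have hs : mapAug φ₀ ⊔ Ideal.map (algebraMap T (MonoidAlgebra T ↥(Nb q)))
        (IsLocalRing.maximalIdeal T) =
      RingHom.ker (Bialgebra.counitAlgHom T (MonoidAlgebra T ↥(Nb q))) ⊔
        Ideal.map (algebraMap T (MonoidAlgebra T ↥(Nb q))) (IsLocalRing.maximalIdeal T) := by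
    apply le_antisymm
    · exact sup_le_sup_right (mapAug_le_aug φ₀) _
    · refine sup_le ?_ le_sup_right
      apply aug_le_of_single
      intro n
      have hn : (n : M) ∈ (glHom (qP q (IsLocalRing.ResidueField T))).ker := n.2
      rw [mem_ker_glHom] at hn
      have e1 : PPa (M := M) (IsLocalRing.ResidueField T) (MonoidAlgebra.single (n : M) (1 : T)) =
          MonoidAlgebra.single (n : M) 1 := by
        unfold PPa
        rw [MonoidAlgebra.mapAlgHom_single, map_one]
      rw [← e1, qP_PPa] at hn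
      have h0 : (1 : IsLocalRing.ResidueField T) ⊗ₜ[T]
          (q (MonoidAlgebra.single (n : M) 1) - 1) = 0 := by
        rw [TensorProduct.tmul_sub, hn, sub_eq_zero]
        exact Algebra.TensorProduct.one_def
      have h3 : q (MonoidAlgebra.single (n : M) 1) - 1 ∈
          Ideal.map (algebraMap T Y) (IsLocalRing.maximalIdeal T) :=
        Groth.Agent.Lib.Helper6.Lift.mem_map_of_one_tmul_eq_zero'
          (IsLocalRing.maximalIdeal T) _ h0
      obtain ⟨y, hy, hqy⟩ := exists_mem_map_of_surjective (q : MonoidAlgebra T M →ₐ[T] Y) hq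
        (IsLocalRing.maximalIdeal T) h3
      have hqy' : q y = q (MonoidAlgebra.single (n : M) 1) - 1 := hqy
      have hz : MonoidAlgebra.single (n : M) (1 : T) - 1 - y ∈ RingHom.ker q := by
        rw [RingHom.mem_ker, map_sub, map_sub, map_one, hqy', sub_self]
      have hz2 := hPIJ _ (h2 hz) 1
      rw [one_mul, map_sub, map_sub] at hz2
      have e2 : pi0 T (Nb q) (MonoidAlgebra.single (n : M) (1 : T)) = MonoidAlgebra.single n 1 :=
        pi0_single_mem T (Nb q) (n : M) n.2 1
      rw [e2, pi0_one] at hz2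
      have hy2 := pi0_mem_map T (Nb q) (IsLocalRing.maximalIdeal T) hy
      have e4 : (MonoidAlgebra.single n (1 : T) - 1 : MonoidAlgebra T ↥(Nb q)) =
          (MonoidAlgebra.single n 1 - 1 - pi0 T (Nb q) y) + pi0 T (Nb q) y := by ring
      rw [e4]
      exact Ideal.add_mem _ (Ideal.mem_sup_left hz2) (Ideal.mem_sup_right hy2)
  have hJ₀ := eq_aug_of_closedFibre hftN hHN (mapAug φ₀) hs
  intro n hn
  rw [mem_ker_glHom]
  have h3 : (MonoidAlgebra.single (⟨n, hn⟩ : ↥(Nb q)) (1 : T) - 1 :
      MonoidAlgebra T ↥(Nb q)) ∈ mapAug φ₀ := by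
    rw [hJ₀, RingHom.mem_ker]
    show counit (R := T) (MonoidAlgebra.single (⟨n, hn⟩ : ↥(Nb q)) (1 : T) - 1 :
      MonoidAlgebra T ↥(Nb q)) = 0
    rw [map_sub, MonoidAlgebra.counit_single, CommSemiring.counit_apply, Bialgebra.counit_one,
      sub_self]
  have hle : mapAug φ₀ ≤ Ideal.comap (iota T (Nb q)) (RingHom.ker q) := by
    rw [Ideal.map_le_iff_le_comap]
    intro c hc
    rw [Ideal.mem_comap, Ideal.mem_comap, RingHom.mem_ker, hφ₀]
    exact h1 c hc
  have h5 := hle h3
  rw [Ideal.mem_comap, RingHom.mem_ker, map_sub, map_sub, iota_single, map_one, map_one,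
    sub_eq_zero] at h5
  exact h5

/-- **The local structure of the kernel**: `ρ_K ∘ φ` is trivial, `K` the group of characters
trivial on the kernel. -/
theorem lp_core (hM : Group.FG M)
    (hD : IsNoetherianRing T ∨ Algebra.FinitePresentation T D)
    (hq : Function.Surjective q)
    (h1 : ∀ c : D, counit (R := T) c = 0 → q (φ c) = 0)
    (h2 : RingHom.ker q ≤ Ideal.map φ (RingHom.ker (Bialgebra.counitAlgHom T D))) (d : D) :
    MonoidAlgebra.mapDomainBialgHom T (QuotientGroup.mk' (glHom q).ker) (φ d) =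
      algebraMap T (MonoidAlgebra T (M ⧸ (glHom q).ker)) (counit (R := T) d) :=
  rho_phi_eq_counit φ q hM hD h1 (glHom q).ker (Nb_le_ker φ q hM hD hq h1 h2) d

end Local

end Groth.Agent.Lib.Helper6.MTKer2
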