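import Mathlib
import Groth.Prelude.Def_SGA3b
import Groth.Agent.Lib.Helper6.MTKer2.P3

/-!
# Kernels of homomorphisms from a diagonalisable group: base change and spreading out (helper6)
-/

set_option autoImplicit false
set_option linter.unusedSectionVars false
set_option linter.unusedVariables false
set_option linter.unusedSimpArgs false
set_option linter.style.haveILetI false
set_option linter.overlappingInstances false
set_option maxHeartbeats 800000
set_option synthInstance.maxHeartbeats 400000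

universe u
open TensorProduct SGA3b Coalgebra
open Groth.Agent.Lib.Helper6.MultType Groth.Agent.Lib.Helper6.Isotriv
open Groth.Agent.Lib.Helper6.ClTriv Groth.Agent.Lib.Helper6.MTKer

namespace Groth.Agent.Lib.Helper6.MTKer2

section BC

variable {R : Type u} [CommRing R] {A C Y : Type u} [CommRing A] [HopfAlgebra R A] [CommRing C]
  [HopfAlgebra R C] [CommRing Y] [HopfAlgebra R Y]
  (φ : C →ₐc[R] A) (q : A →ₐc[R] Y) (S : Type u) [CommRing S] [Algebra R S] {M : Type u}
  [CommGroup M] (e : S ⊗[R] A ≃ₐc[S] MonoidAlgebra S M)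

/-- the base change of `φ`, read in the chart -/
noncomputable def phiS : S ⊗[R] C →ₐc[S] MonoidAlgebra S M :=
  (e : S ⊗[R] A →ₐc[S] MonoidAlgebra S M).comp (Bialgebra.TensorProduct.map (BialgHom.id S S) φ)

/-- the base change of `q`, read in the chart -/
noncomputable def qS : MonoidAlgebra S M →ₐc[S] S ⊗[R] Y :=
  (Bialgebra.TensorProduct.map (BialgHom.id S S) q).comp
    (e.symm : MonoidAlgebra S M →ₐc[S] S ⊗[R] A)

lemma phiS_apply (x : S ⊗[R] C) :
    phiS φ S e x = e (Bialgebra.TensorProduct.map (BialgHom.id S S) φ x) := rfl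

lemma qS_apply (x : MonoidAlgebra S M) :
    qS q S e x = Bialgebra.TensorProduct.map (BialgHom.id S S) q (e.symm x) := rfl

lemma map_surj (hq : Function.Surjective q) :
    Function.Surjective (Bialgebra.TensorProduct.map (BialgHom.id S S) q) := by
  intro z
  induction z using TensorProduct.induction_on with
  | zero => exact ⟨0, map_zero _⟩
  | tmul r a =>
    obtain ⟨a', rfl⟩ := hq a
    exact ⟨r ⊗ₜ a', rfl⟩
  | add z w hz hw =>
    obtain ⟨z', rfl⟩ := hz
    obtain ⟨w', rfl⟩ := hw
    exact ⟨z' + w', map_add _ _ _⟩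

lemma qS_surjective (hq : Function.Surjective q) : Function.Surjective (qS q S e) := by
  intro y
  obtain ⟨x, rfl⟩ := map_surj q S hq y
  exact ⟨e x, by rw [qS_apply, BialgEquiv.symm_apply_apply]⟩

lemma map_map_eq (h1 : ∀ c : C, counit (R := R) c = 0 → q (φ c) = 0) (v : S ⊗[R] C) :
    Bialgebra.TensorProduct.map (BialgHom.id S S) q
      (Bialgebra.TensorProduct.map (BialgHom.id S S) φ v) =
      algebraMap S (S ⊗[R] Y) (counit (R := S) v) := by
  have h1' : ∀ c : C, q (φ c) = algebraMap R Y (counit (R := R) c) := by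
    intro c
    have hc0 : counit (R := R) (c - algebraMap R C (counit (R := R) c)) = 0 := sub_counit_mem c
    have h := h1 _ hc0
    rw [map_sub, map_sub, sub_eq_zero] at h
    rw [h, AlgHomClass.commutes φ, AlgHomClass.commutes q]
  induction v using TensorProduct.induction_on with
  | zero => simp
  | add x y hx hy => rw [map_add, map_add, hx, hy, map_add, map_add]
  | tmul s c =>
    have e1 : s ⊗ₜ[R] c = s • ((1 : S) ⊗ₜ[R] c) := by
      rw [TensorProduct.smul_tmul', smul_eq_mul, mul_one]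
    have e2 : Bialgebra.TensorProduct.map (BialgHom.id S S) q
        (Bialgebra.TensorProduct.map (BialgHom.id S S) φ ((1 : S) ⊗ₜ[R] c)) =
        (1 : S) ⊗ₜ[R] q (φ c) := rfl
    have hL : Bialgebra.TensorProduct.map (BialgHom.id S S) q
        (Bialgebra.TensorProduct.map (BialgHom.id S S) φ (s ⊗ₜ[R] c)) =
        s • ((1 : S) ⊗ₜ[R] algebraMap R Y (counit (R := R) c)) := by
      rw [e1, map_smul, map_smul, e2, h1']
    have hR : counit (R := S) (s ⊗ₜ[R] c) = s * algebraMap R S (counit (R := R) c) := by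
      rw [e1, map_smul, counit_one_tmul, smul_eq_mul]
    rw [hL, hR, one_tmul_algebraMap', map_mul]
    exact Algebra.smul_def s _

lemma h1S (h1 : ∀ c : C, counit (R := R) c = 0 → q (φ c) = 0) (v : S ⊗[R] C)
    (hv : counit (R := S) v = 0) : qS q S e (phiS φ S e v) = 0 := by
  rw [qS_apply, phiS_apply, BialgEquiv.symm_apply_apply, map_map_eq φ q S h1, hv, map_zero]

lemma h2S (hq : Function.Surjective q)
    (h2 : RingHom.ker q ≤ Ideal.map φ (RingHom.ker (Bialgebra.counitAlgHom R C))) :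
    RingHom.ker (qS q S e) ≤
      Ideal.map (phiS φ S e) (RingHom.ker (Bialgebra.counitAlgHom S (S ⊗[R] C))) := by
  intro z hz
  rw [RingHom.mem_ker, qS_apply] at hz
  obtain ⟨w, hw⟩ : ∃ w, w = e.symm z := ⟨_, rfl⟩
  have hzw : z = e w := by rw [hw, BialgEquiv.apply_symm_apply]
  have hw0 : w ∈ RingHom.ker (Algebra.TensorProduct.map (AlgHom.id R S)
      (q : A →ₐ[R] Y)) := by
    rw [RingHom.mem_ker, hw]
    exact hz
  have hqs : Function.Surjective (q : A →ₐ[R] Y) := hq
  rw [Algebra.TensorProduct.lTensor_ker _ hqs] at hw0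
  have hle : Ideal.map (Algebra.TensorProduct.includeRight : A →ₐ[R] S ⊗[R] A)
      (RingHom.ker (q : A →ₐ[R] Y)) ≤
      Ideal.comap (RingHomClass.toRingHom e)
        (Ideal.map (phiS φ S e) (RingHom.ker (Bialgebra.counitAlgHom S (S ⊗[R] C)))) := by
    rw [Ideal.map_le_iff_le_comap]
    intro a ha
    have ha' : a ∈ RingHom.ker q := ha
    have ha2 := h2 ha'
    have hle2 : Ideal.map φ (RingHom.ker (Bialgebra.counitAlgHom R C)) ≤
        Ideal.comap (Algebra.TensorProduct.includeRight : A →ₐ[R] S ⊗[R] A)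
          (Ideal.comap (RingHomClass.toRingHom e)
            (Ideal.map (phiS φ S e) (RingHom.ker (Bialgebra.counitAlgHom S (S ⊗[R] C))))) := by
      rw [Ideal.map_le_iff_le_comap]
      intro c hc
      have hc' : counit (R := R) c = 0 := hc
      rw [Ideal.mem_comap, Ideal.mem_comap, Ideal.mem_comap]
      show e ((1 : S) ⊗ₜ[R] φ c) ∈ _
      have e3 : e ((1 : S) ⊗ₜ[R] φ c) = phiS φ S e ((1 : S) ⊗ₜ[R] c) := rfl
      rw [e3]
      apply Ideal.mem_map_of_mem
      rw [RingHom.mem_ker]
      show counit (R := S) ((1 : S) ⊗ₜ[R] c) = 0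
      rw [counit_one_tmul, hc', map_zero]
    exact hle2 ha2
  have h3 := hle hw0
  rw [Ideal.mem_comap] at h3
  rw [hzw]
  exact h3

end BC

section Diag

variable {S : Type u} [CommRing S] {M : Type u} [CommGroup M] {D : Type u} [CommRing D]
  [HopfAlgebra S D] {Y : Type u} [CommRing Y] [HopfAlgebra S Y]
  (φ : D →ₐc[S] MonoidAlgebra S M) (q : MonoidAlgebra S M →ₐc[S] Y)
  (S' : Type u) [CommRing S'] [Algebra S S']

lemma mem_ker_glHom_qP (p : M) : p ∈ (glHom (qP q S')).ker ↔
    (1 : S') ⊗ₜ[S] (q (MonoidAlgebra.single p 1) - 1) = 0 := by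
  rw [mem_ker_glHom]
  have e1 : PPa (M := M) S' (MonoidAlgebra.single p (1 : S)) = MonoidAlgebra.single p 1 := by
    unfold PPa
    rw [MonoidAlgebra.mapAlgHom_single, map_one]
  rw [← e1, qP_PPa, TensorProduct.tmul_sub, sub_eq_zero, Algebra.TensorProduct.one_def]

lemma PPa_eq_zero_iff {G : Type u} [CommGroup G] (x : MonoidAlgebra S G) :
    PPa (M := G) S' x = 0 ↔ (1 : S') ⊗ₜ[S] x = 0 := by
  rw [← scalarTensor_one_tmul]
  constructor
  · intro h
    have h' := congrArg (scalarTensorBialgEquiv S S' G).symm h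
    rw [BialgEquiv.symm_apply_apply, map_zero] at h'
    exact h'
  · intro h
    rw [h, map_zero]

include φ in
/-- diagonalisability of the kernel over `S'` from the vanishing of `ρ_P ∘ φ` on the
augmentation ideal -/
theorem isDiag_of_cond (hq : Function.Surjective q)
    (h2 : RingHom.ker q ≤ Ideal.map φ (RingHom.ker (Bialgebra.counitAlgHom S D)))
    (P : Subgroup M) (hP1 : P ≤ (glHom (qP q S')).ker)
    (hP2 : ∀ d : D, counit (R := S) d = 0 → PPa (M := M ⧸ P) S'
      (MonoidAlgebra.mapDomainBialgHom S (QuotientGroup.mk' P) (φ d)) = 0) :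
    IsDiag S' (S' ⊗[S] Y) := by
  apply isDiag_of_ker_le (qP q S') (qP_surjective q S' hq)
  intro z hz
  obtain ⟨w, hw⟩ : ∃ w, w = (scalarTensorBialgEquiv S S' M).symm z := ⟨_, rfl⟩
  have hzw : z = scalarTensorBialgEquiv S S' M w := by
    rw [hw, BialgEquiv.apply_symm_apply]
  have hw0 : w ∈ RingHom.ker (Algebra.TensorProduct.map (AlgHom.id S S')
      (q : MonoidAlgebra S M →ₐ[S] Y)) := by
    rw [RingHom.mem_ker, hw]
    exact hz
  rw [Algebra.TensorProduct.lTensor_ker _ hq] at hw0
  let Θ : S' ⊗[S] MonoidAlgebra S M →+* MonoidAlgebra S' (M ⧸ (glHom (qP q S')).ker) :=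
    (RingHomClass.toRingHom (rhoK q S')).comp
      (RingHomClass.toRingHom (scalarTensorBialgEquiv S S' M))
  have hΘ : ∀ v, Θ v = rhoK q S' (scalarTensorBialgEquiv S S' M v) := fun v => rfl
  have hle : Ideal.map (Algebra.TensorProduct.includeRight :
      MonoidAlgebra S M →ₐ[S] S' ⊗[S] MonoidAlgebra S M)
      (RingHom.ker (q : MonoidAlgebra S M →ₐ[S] Y)) ≤ RingHom.ker Θ := by
    rw [Ideal.map_le_iff_le_comap]
    intro x hx
    have hx' : x ∈ RingHom.ker q := hx
    have hx2 := h2 hx'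
    have hle2 : Ideal.map φ (RingHom.ker (Bialgebra.counitAlgHom S D)) ≤
        Ideal.comap (Algebra.TensorProduct.includeRight :
          MonoidAlgebra S M →ₐ[S] S' ⊗[S] MonoidAlgebra S M) (RingHom.ker Θ) := by
      rw [Ideal.map_le_iff_le_comap]
      intro c hc
      rw [Ideal.mem_comap, Ideal.mem_comap, RingHom.mem_ker]
      have hc' : counit (R := S) c = 0 := hc
      show Θ ((1 : S') ⊗ₜ[S] φ c) = 0
      rw [hΘ, scalarTensor_one_tmul]
      show MonoidAlgebra.mapDomainBialgHom S' (QuotientGroup.mk' (glHom (qP q S')).ker)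
        (PPa (M := M) S' (φ c)) = 0
      apply mapDomain_mk_of_le P _ hP1
      rw [mapDomain_PPa]
      exact hP2 c hc'
    exact hle2 hx2
  have h3 := hle hw0
  rw [RingHom.mem_ker, hΘ, ← hzw] at h3
  exact h3

end Diag

section Loc

lemma exists_smul_eq_zero_finset {S : Type u} [CommRing S] (𝔓 : Ideal S) [𝔓.IsPrime]
    (T : Type u) [CommRing T] [Algebra S T] [IsLocalization.AtPrime T 𝔓]
    {N : Type u} [AddCommGroup N] [Module S N]
    (F : Finset N) (h : ∀ y ∈ F, (1 : T) ⊗ₜ[S] y = 0) :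
    ∃ g : S, g ∉ 𝔓 ∧ ∀ y ∈ F, g • y = 0 := by
  classical
  induction F using Finset.induction_on with
  | empty =>
    refine ⟨1, ?_, fun y hy => absurd hy (Finset.notMem_empty y)⟩
    intro h1
    exact (Ideal.IsPrime.ne_top ‹𝔓.IsPrime›) ((Ideal.eq_top_iff_one _).mpr h1)
  | insert a F ha ih =>
    obtain ⟨g₁, hg₁, hk₁⟩ := ih (fun y hy => h y (Finset.mem_insert_of_mem hy))
    have h0 := h a (Finset.mem_insert_self a F)
    obtain ⟨s, hs⟩ := (IsLocalizedModule.eq_zero_iff 𝔓.primeCompl
      (TensorProduct.mk S T N 1)).mp h0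
    have hs' : (s : S) • a = 0 := hs
    refine ⟨(s : S) * g₁, ?_, ?_⟩
    · intro hmem
      rcases Ideal.IsPrime.mem_or_mem ‹𝔓.IsPrime› hmem with h' | h'
      · exact s.2 h'
      · exact hg₁ h'
    · intro y hy
      rcases Finset.mem_insert.mp hy with hya | hy'
      · rw [hya, mul_comm, mul_smul, hs', smul_zero]
      · rw [mul_smul, hk₁ y hy', smul_zero]

lemma one_tmul_eq_zero_away {S : Type u} [CommRing S] (g : S) {N : Type u} [AddCommGroup N]
    [Module S N] (y : N) (h : g • y = 0) : (1 : Localization.Away g) ⊗ₜ[S] y = 0 :=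
  (IsLocalizedModule.eq_zero_iff (Submonoid.powers g)
    (TensorProduct.mk S (Localization.Away g) N 1)).mpr ⟨⟨g, Submonoid.mem_powers g⟩, h⟩

/-- **Spreading out**: around every prime of `S` the kernel is diagonalisable over a basic
open neighbourhood. -/
theorem exists_away_isDiag {S : Type u} [CommRing S] {M : Type u} [CommGroup M]
    (hM : Group.FG M) {D : Type u} [CommRing D] [HopfAlgebra S D]
    (hD : Algebra.FinitePresentation S D) {Y : Type u} [CommRing Y] [HopfAlgebra S Y]
    (φ : D →ₐc[S] MonoidAlgebra S M) (q : MonoidAlgebra S M →ₐc[S] Y)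
    (hq : Function.Surjective q) (h1 : ∀ c : D, counit (R := S) c = 0 → q (φ c) = 0)
    (h2 : RingHom.ker q ≤ Ideal.map φ (RingHom.ker (Bialgebra.counitAlgHom S D)))
    (𝔓 : Ideal S) [𝔓.IsPrime] (T : Type u) [CommRing T] [Algebra S T]
    [IsLocalization.AtPrime T 𝔓] :
    ∃ g : S, g ∉ 𝔓 ∧ IsDiag (Localization.Away g) (Localization.Away g ⊗[S] Y) := by
  classical
  haveI := hD
  haveI : IsLocalRing T := IsLocalization.AtPrime.isLocalRing T 𝔓
  have core : ∀ d' : T ⊗[S] D,
      MonoidAlgebra.mapDomainBialgHom T (QuotientGroup.mk' (glHom (qP q T)).ker)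
        (phiS φ T (scalarTensorBialgEquiv S T M) d') =
      algebraMap T (MonoidAlgebra T (M ⧸ (glHom (qP q T)).ker)) (counit (R := T) d') :=
    lp_core (phiS φ T (scalarTensorBialgEquiv S T M)) (qS q T (scalarTensorBialgEquiv S T M)) hM
      (Or.inr inferInstance) (qS_surjective q T _ hq) (h1S φ q T _ h1) (h2S φ q T _ hq h2)
  obtain ⟨F, hF⟩ := subgroup_fg hM (glHom (qP q T)).ker
  have hY : ∀ y ∈ F.image (fun p => q (MonoidAlgebra.single p (1 : S)) - 1),
      (1 : T) ⊗ₜ[S] y = 0 := by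
    intro y hy
    obtain ⟨p, hp, rfl⟩ := Finset.mem_image.mp hy
    apply (mem_ker_glHom_qP q T p).mp
    rw [← hF]
    exact Subgroup.subset_closure hp
  obtain ⟨g₁, hg₁, hk₁⟩ := exists_smul_eq_zero_finset 𝔓 T _ hY
  have hft : Algebra.FiniteType S D := inferInstance
  obtain ⟨G, hG⟩ := aug_fg hft
  have hZ : ∀ x ∈ G.image (fun d => MonoidAlgebra.mapDomainBialgHom S
      (QuotientGroup.mk' (glHom (qP q T)).ker) (φ d)), (1 : T) ⊗ₜ[S] x = 0 := by
    intro x hx
    obtain ⟨d, hd, rfl⟩ := Finset.mem_image.mp hx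
    rw [← PPa_eq_zero_iff, ← mapDomain_PPa]
    have hd0 : counit (R := S) d = 0 := by
      have hmem : d ∈ RingHom.ker (Bialgebra.counitAlgHom S D) := by
        rw [← hG]
        exact Ideal.subset_span hd
      exact hmem
    have h3 := core ((1 : T) ⊗ₜ[S] d)
    have e3 : phiS φ T (scalarTensorBialgEquiv S T M) ((1 : T) ⊗ₜ[S] d) =
        PPa (M := M) T (φ d) := by
      rw [← scalarTensor_one_tmul]
      rfl
    rw [e3, counit_one_tmul, hd0, map_zero, map_zero] at h3
    exact h3
  obtain ⟨g₂, hg₂, hk₂⟩ := exists_smul_eq_zero_finset 𝔓 T _ hZ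
  refine ⟨g₁ * g₂, ?_, ?_⟩
  · intro hmem
    rcases Ideal.IsPrime.mem_or_mem ‹𝔓.IsPrime› hmem with h' | h'
    · exact hg₁ h'
    · exact hg₂ h'
  apply isDiag_of_cond φ q (Localization.Away (g₁ * g₂)) hq h2 (glHom (qP q T)).ker
  · rw [← hF, Subgroup.closure_le]
    intro p hp
    rw [SetLike.mem_coe, mem_ker_glHom_qP]
    apply one_tmul_eq_zero_away
    rw [mul_comm, mul_smul, hk₁ _ (Finset.mem_image_of_mem _ hp), smul_zero]
  · intro d hd
    have hdm : d ∈ Ideal.span (G : Set D) := by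
      rw [hG]
      exact hd
    refine Submodule.span_induction ?_ ?_ ?_ ?_ hdm
    · intro x hx
      rw [PPa_eq_zero_iff]
      apply one_tmul_eq_zero_away
      rw [mul_smul, hk₂ _ (Finset.mem_image_of_mem _ hx), smul_zero]
    · rw [map_zero, map_zero, map_zero]
    · intro x y _ _ hx hy
      rw [map_add, map_add, map_add, hx, hy, add_zero]
    · intro a x _ hx
      rw [smul_eq_mul, map_mul, map_mul, map_mul, hx, mul_zero]

end Loc

end Groth.Agent.Lib.Helper6.MTKer2
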