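import Mathlib
import Groth.Prelude.Def_SGA3b
import Groth.Agent.Lib.Helper6.MTKer2.P4

/-!
# The kernel of a homomorphism from a group of multiplicative type to a finitely presented
affine group is of multiplicative type (helper6)
-/

set_option autoImplicit false
set_option linter.unusedSectionVars false
set_option linter.unusedVariables false
set_option linter.unusedSimpArgs false
set_option linter.style.haveILetI false
set_option linter.overlappingInstances false
set_option maxHeartbeats 800000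
set_option synthInstance.maxHeartbeats 400000

universe u
open TensorProduct SGA3b Coalgebra
open Groth.Agent.Lib.Helper6.MultType Groth.Agent.Lib.Helper6.Isotriv
open Groth.Agent.Lib.Helper6.ClTriv Groth.Agent.Lib.Helper6.MTKer
open Groth.Agent.Lib.Helper6.QIso Groth.Agent.Lib.Helper6.Lift

namespace Groth.Agent.Lib.Helper6.MTKer2

section Chart

variable {R : Type u} [CommRing R] {A C : Type u} [CommRing A] [HopfAlgebra R A] [CommRing C]
  [HopfAlgebra R C] (φ : C →ₐc[R] A) (J : Ideal A) [J.IsHopfIdeal R]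
  (hJ : J = Ideal.map φ (RingHom.ker (Bialgebra.counitAlgHom R C)))

include hJ in
/-- Over a chart of `A` the kernel is diagonalisable locally for the Zariski topology. -/
theorem exists_away_of_chart (hft : Algebra.FiniteType R A)
    (hC : Algebra.FinitePresentation R C)
    (S : Type u) [CommRing S] [Algebra R S] (hdA : IsDiag S (S ⊗[R] A)) :
    ∃ (Λ : Type u) (_ : Fintype Λ) (g : Λ → S),
      (∀ 𝔮 : PrimeSpectrum S, ∃ l, g l ∉ 𝔮.asIdeal) ∧
      ∀ l, IsDiag (Localization.Away (g l)) (Localization.Away (g l) ⊗[R] (A ⧸ J)) := by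
  classical
  by_cases hS : Nontrivial S
  swap
  · haveI : Subsingleton S := not_nontrivial_iff_subsingleton.mp hS
    refine ⟨PEmpty, inferInstance, fun l => l.elim, ?_, fun l => l.elim⟩
    intro 𝔮
    exfalso
    apply 𝔮.isPrime.ne_top
    rw [Ideal.eq_top_iff_one, Subsingleton.elim (1 : S) 0]
    exact zero_mem _
  obtain ⟨M, _, ⟨eA⟩⟩ := hdA
  have hM : Group.FG M := fg_of_chart eA hft
  haveI := hC
  let q₀ : A →ₐc[R] A ⧸ J := Bialgebra.Quotient.mkBialgHom (R := R) J
  have hq₀ : Function.Surjective q₀ := Ideal.Quotient.mk_surjective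
  have h1₀ : ∀ c : C, counit (R := R) c = 0 → q₀ (φ c) = 0 := by
    intro c hc
    show Ideal.Quotient.mk J (φ c) = 0
    rw [Ideal.Quotient.eq_zero_iff_mem, hJ]
    exact Ideal.mem_map_of_mem φ hc
  have h2₀ : RingHom.ker q₀ ≤ Ideal.map φ (RingHom.ker (Bialgebra.counitAlgHom R C)) := by
    intro a ha
    rw [← hJ]
    have h0 : Ideal.Quotient.mk J a = 0 := ha
    exact Ideal.Quotient.eq_zero_iff_mem.mp h0
  have loc : ∀ 𝔮 : PrimeSpectrum S, ∃ g : S, g ∉ 𝔮.asIdeal ∧
      IsDiag (Localization.Away g) (Localization.Away g ⊗[S] (S ⊗[R] (A ⧸ J))) := by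
    intro 𝔮
    exact exists_away_isDiag hM (inferInstance : Algebra.FinitePresentation S (S ⊗[R] C))
      (phiS φ S eA) (qS q₀ S eA) (qS_surjective q₀ S eA hq₀) (h1S φ q₀ S eA h1₀)
      (h2S φ q₀ S eA hq₀ h2₀) 𝔮.asIdeal (Localization.AtPrime 𝔮.asIdeal)
  choose g hg hd using loc
  have hspan : Ideal.span (Set.range g) = ⊤ := by
    by_contra hne
    obtain ⟨𝔪, hmax, hle⟩ := Ideal.exists_le_maximal _ hne
    exact hg ⟨𝔪, hmax.isPrime⟩ (hle (Ideal.subset_span ⟨_, rfl⟩))
  obtain ⟨s', hs's, hs'⟩ := (Ideal.span_eq_top_iff_finite _).mp hspan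
  have hpre : ∀ l : ↥s', ∃ 𝔮 : PrimeSpectrum S, g 𝔮 = l.1 := fun l => hs's l.2
  choose pr hpr using hpre
  refine ⟨↥s', inferInstance, fun l => g (pr l), ?_, ?_⟩
  · intro 𝔮
    by_contra hcon
    push Not at hcon
    have h1 : Ideal.span (s' : Set S) ≤ 𝔮.asIdeal := by
      rw [Ideal.span_le]
      intro x hx
      have h2 := hcon ⟨x, hx⟩
      rw [hpr] at h2
      exact h2
    rw [hs'] at h1
    exact 𝔮.isPrime.ne_top (top_le_iff.mp h1)
  · intro l
    exact IsDiag.of_tower S (Localization.Away (g (pr l))) (hd (pr l))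

end Chart

section Main

variable {R : Type u} [CommRing R] {A C : Type u} [CommRing A] [HopfAlgebra R A] [CommRing C]
  [HopfAlgebra R C]

/-- **SGA 3 IX 6.8 (affine form)**: the kernel of a homomorphism from a group of multiplicative
type and of finite type to a finitely presented affine group is of multiplicative type. -/
theorem isMultType_kernel_fp (hft : Algebra.FiniteType R A) (hA : IsMultType R A)
    (hC : Algebra.FinitePresentation R C) (φ : C →ₐc[R] A) (J : Ideal A) [J.IsHopfIdeal R]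
    (hJ : J = Ideal.map φ (RingHom.ker (Bialgebra.counitAlgHom R C))) :
    IsMultType R (A ⧸ J) := by
  classical
  obtain ⟨I, _, c, hc⟩ := exists_charts_spec hA
  have hP : ∀ i : I, ∃ (Λ : Type u) (_ : Fintype Λ) (g : Λ → (c i).S),
      (∀ 𝔮 : PrimeSpectrum (c i).S, ∃ l, g l ∉ 𝔮.asIdeal) ∧
      ∀ l, IsDiag (Localization.Away (g l)) (Localization.Away (g l) ⊗[R] (A ⧸ J)) :=
    fun i => exists_away_of_chart φ J hJ hft hC (c i).S (c i).diag
  choose Λ hΛ g hgc hgd using hP
  letI : ∀ i, Fintype (Λ i) := hΛ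
  apply isMultType_of_charts (ι := Σ i : I, Λ i) (fun j => Localization.Away (g j.1 j.2))
  · intro j
    haveI := (c j.1).flat
    haveI : Module.Flat (c j.1).S (Localization.Away (g j.1 j.2)) :=
      IsLocalization.flat _ (Submonoid.powers (g j.1 j.2))
    exact Module.Flat.trans R (c j.1).S (Localization.Away (g j.1 j.2))
  · intro p
    obtain ⟨i, 𝔮, h𝔮⟩ := hc p
    obtain ⟨l, hl⟩ := hgc i 𝔮
    have h1 : 𝔮 ∈ Set.range (PrimeSpectrum.comap
        (algebraMap (c i).S (Localization.Away (g i l)))) := by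
      rw [PrimeSpectrum.localization_away_comap_range (Localization.Away (g i l)) (g i l)]
      exact hl
    obtain ⟨𝔯, h𝔯⟩ := h1
    refine ⟨⟨i, l⟩, 𝔯, ?_⟩
    rw [IsScalarTower.algebraMap_eq R (c i).S (Localization.Away (g i l)),
      PrimeSpectrum.comap_comp_apply, h𝔯, h𝔮]
  · intro j
    exact hgd j.1 j.2

end Main

end Groth.Agent.Lib.Helper6.MTKer2
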